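import Groth.Agent.L27.ExtZero.Restr
import Groth.Agent.L27.ExtZero.Cont
import Groth.Agent.L27.EtSite.BaseChangeIso

/-! # Base change of abelian sheaves along etale morphisms -/

universe u

open CategoryTheory CategoryTheory.Limits AlgebraicGeometry Opposite

set_option autoImplicit false
set_option backward.isDefEq.respectTransparency.types false
set_option linter.style.haveILetI false
set_option maxHeartbeats 1000000

noncomputable section

namespace Groth.L10.EtLocalBC

open Groth.L27 Groth.L27.EtSite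

variable {X S X' S' : Scheme.{u}} {f : X ⟶ S} {g : S' ⟶ S} [Etale g] {f' : X' ⟶ S'} {g' : X' ⟶ X} [Etale g']

/-- The restriction of a preimage compared with the preimage of a restriction. -/
def cmpZero (w : g' ≫ f = f' ≫ g) (W : S'.Etale) :
    (EtShriek.compEtale g').obj ((EtCoh.bc f').obj W) ⟶ (EtCoh.bc f).obj ((EtShriek.compEtale g).obj W) :=
  MorphismProperty.Over.homMk
    (pullback.lift (pullback.fst W.hom f') (pullback.snd W.hom f' ≫ g')
      (((Category.assoc _ _ _).symm.trans ((congrArg (· ≫ g) pullback.condition).trans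
        ((Category.assoc _ _ _).trans ((congrArg (_ ≫ ·) w.symm).trans (Category.assoc _ _ _).symm))))))
    (pullback.lift_snd _ _ _)

theorem isIso_cmpZero (h : IsPullback g' f' f g) (W : S'.Etale) : IsIso (cmpZero h.w W).left := by
  have hp : IsPullback (pullback.fst W.hom f') (pullback.snd W.hom f' ≫ g') (W.hom ≫ g) f :=
    ((IsPullback.of_hasPullback W.hom f').flip.paste_horiz h).flip
  have : (cmpZero h.w W).left = hp.isoPullback.hom := pullback.hom_ext
    ((pullback.lift_fst _ _ _).trans hp.isoPullback_hom_fst.symm)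
    ((pullback.lift_snd _ _ _).trans hp.isoPullback_hom_snd.symm)
  rw [this]
  infer_instance

theorem cmpZero_nat (w : g' ≫ f = f' ≫ g) {W W' : S'.Etale} (m : W' ⟶ W) :
    (EtShriek.compEtale g').map ((EtCoh.bc f').map m) ≫ cmpZero w W =
      cmpZero w W' ≫ (EtCoh.bc f).map ((EtShriek.compEtale g).map m) := by
  refine MorphismProperty.Over.Hom.ext (pullback.hom_ext ?_ ?_)
  · refine (Category.assoc _ _ _).trans ((congrArg (_ ≫ ·) (pullback.lift_fst _ _ _)).trans ?_)
    refine Eq.trans ?_ (Category.assoc _ _ _).symm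
    refine Eq.trans ?_ (congrArg (_ ≫ ·) (LimCoh.fstB_nat f ((EtShriek.compEtale g).map m))).symm
    refine (LimCoh.fstB_nat f' m).trans ?_
    exact ((congrArg (· ≫ m.left) (pullback.lift_fst _ _ _)).symm.trans (Category.assoc _ _ _))
  · exact (MorphismProperty.Over.w ((EtShriek.compEtale g').map ((EtCoh.bc f').map m) ≫ cmpZero w W)).trans
      (MorphismProperty.Over.w (cmpZero w W' ≫ (EtCoh.bc f).map ((EtShriek.compEtale g).map m))).symm

variable [EtShriek.JCont g] [EtShriek.JCont g']

/-- The comparison of restrictions of a direct image. -/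
def cmpMap (w : g' ≫ f = f' ≫ g) (F : EtCoh.Ab X) :
    (EtShriek.restrAlong g).obj ((EtCoh.push f).obj F) ⟶ (EtCoh.push f').obj ((EtShriek.restrAlong g').obj F) :=
  ⟨{ app := fun W => F.obj.map (cmpZero w W.unop).op
     naturality := fun W W' m => (F.obj.map_comp _ _).symm.trans
       ((congrArg (fun l => F.obj.map (Quiver.Hom.op l)) (cmpZero_nat w m.unop).symm).trans (F.obj.map_comp _ _)) }⟩

theorem isIso_cmpMap (h : IsPullback g' f' f g) (F : EtCoh.Ab X) : IsIso (cmpMap h.w F) := by
  haveI : IsIso ((sheafToPresheaf _ _).map (cmpMap h.w F)) := by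
    haveI : ∀ W : S'.Etaleᵒᵖ, IsIso (((sheafToPresheaf _ _).map (cmpMap h.w F)).app W) := fun W => by
      haveI := isIso_cmpZero h W.unop
      haveI : IsIso (cmpZero h.w W.unop) :=
        ⟨MorphismProperty.Over.homMk (inv (cmpZero h.w W.unop).left)
            ((IsIso.inv_comp_eq _).2 (MorphismProperty.Over.w (cmpZero h.w W.unop)).symm),
          MorphismProperty.Over.Hom.ext (IsIso.hom_inv_id _), MorphismProperty.Over.Hom.ext (IsIso.inv_hom_id _)⟩
      exact inferInstanceAs (IsIso (F.obj.map (cmpZero h.w W.unop).op))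
    exact NatIso.isIso_of_isIso_app _
  exact isIso_of_reflects_iso _ (sheafToPresheaf _ _)

omit [Etale g] [Etale g'] in
theorem baseChange0_transpose (w : g' ≫ f = f' ≫ g) (F : EtCoh.Ab X) :
    (EtCoh.pullPushAdj g).unit.app ((EtCoh.push f).obj F) ≫ (EtCoh.push g).map (EtCoh.baseChange0 f g f' g' w F) =
      (EtCoh.push f).map ((EtCoh.pullPushAdj g').unit.app F) ≫ (EtCoh.pushComp f g').hom.app _ ≫
        (EtCoh.pushCongr w).hom.app _ ≫ (EtCoh.pushComp g f').inv.app _ :=
  ((EtCoh.pullPushAdj g).homEquiv_unit _ _ _).symm.trans (Equiv.apply_symm_apply _ _)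

theorem baseChange0_eq (w : g' ≫ f = f' ≫ g) (F : EtCoh.Ab X) :
    EtCoh.baseChange0 f g f' g' w F ≫ (EtCoh.push f').map ((ExtZero.pullRestr g').hom.app F) =
      (ExtZero.pullRestr g).hom.app ((EtCoh.push f).obj F) ≫ cmpMap w F := by
  refine ((EtCoh.pullPushAdj g).homEquiv _ _).injective ?_
  rw [Adjunction.homEquiv_unit, Adjunction.homEquiv_unit, Functor.map_comp, Functor.map_comp, ← Category.assoc,
    ← Category.assoc, baseChange0_transpose w F, ExtZero.unit_pullRestr g ((EtCoh.push f).obj F)]
  refine ObjectProperty.hom_ext _ (NatTrans.ext (funext fun ⟨V⟩ => ConcreteCategory.hom_ext _ _ fun s => ?_))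
  let η : F.obj.obj (op ((EtCoh.bc f).obj V)) →
      ((EtCoh.pull g').obj F).obj.obj (op ((EtCoh.bc g').obj ((EtCoh.bc f).obj V))) :=
    fun x => ((EtCoh.pullPushAdj g').unit.app F).hom.app (op ((EtCoh.bc f).obj V)) x
  show ((ExtZero.pullRestr g').hom.app F).hom.app (op ((EtCoh.bc f').obj ((EtCoh.bc g).obj V)))
      (((EtCoh.pull g').obj F).obj.map ((MorphismProperty.Over.pullbackComp (P := EtCoh.etaleMP) (Q := ⊤) f' g).inv.app V).op
        (((EtCoh.pull g').obj F).obj.map ((MorphismProperty.Over.pullbackCongr (P := EtCoh.etaleMP) (Q := ⊤) w).inv.app V).op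
          (((EtCoh.pull g').obj F).obj.map
            ((MorphismProperty.Over.pullbackComp (P := EtCoh.etaleMP) (Q := ⊤) g' f).hom.app V).op (η s)))) =
    F.obj.map (cmpZero w ((EtCoh.bc g).obj V)).op (F.obj.map ((EtCoh.bc f).map (ExtZero.epsE g V)).op s)
  refine (congrArg (((ExtZero.pullRestr g').hom.app F).hom.app (op ((EtCoh.bc f').obj ((EtCoh.bc g).obj V))))
    ((EtSite.BC.map_map_map ((EtCoh.pull g').obj F).obj _ _ _ (η s)).trans
      (congrArg (fun l => ((EtCoh.pull g').obj F).obj.map (Quiver.Hom.op l) (η s)) (EtSite.BC.swap_eq w V)))).trans ?_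
  refine (NatTrans.naturality_apply ((ExtZero.pullRestr g').hom.app F).hom (EtSite.BC.swap w V).op (η s)).trans ?_
  refine (congrArg (((EtShriek.restrAlong g').obj F).obj.map (EtSite.BC.swap w V).op)
    (ExtZero.pullRestr_unit_app g' F ((EtCoh.bc f).obj V) s)).trans ?_
  show F.obj.map ((EtShriek.compEtale g').map (EtSite.BC.swap w V)).op (F.obj.map (ExtZero.epsE g' _).op s) = _
  rw [← Functor.map_comp_apply, ← Functor.map_comp_apply, ← op_comp, ← op_comp]
  refine congrArg (fun l => F.obj.map (Quiver.Hom.op l) s) (MorphismProperty.Over.Hom.ext (pullback.hom_ext ?_ ?_))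
  · have e1 : ((EtSite.BC.swap w V).left ≫ pullback.fst ((EtCoh.bc f).obj V).hom g') ≫ pullback.fst V.hom f =
        pullback.fst (pullback.snd V.hom g) f' ≫ pullback.fst V.hom g :=
      (congrArg (· ≫ pullback.fst V.hom f) (pullback.lift_fst _ _ _)).trans (pullback.lift_fst _ _ _)
    refine Eq.trans e1 (((Category.assoc _ _ _).trans ((congrArg (_ ≫ ·) (LimCoh.fstB_nat f (ExtZero.epsE g V))).trans
        ((Category.assoc _ _ _).symm.trans (congrArg (· ≫ pullback.fst V.hom g) (pullback.lift_fst _ _ _))))).symm)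
  · exact (MorphismProperty.Over.w ((EtShriek.compEtale g').map (EtSite.BC.swap w V) ≫ ExtZero.epsE g' _)).trans
      (MorphismProperty.Over.w (cmpZero w ((EtCoh.bc g).obj V) ≫ (EtCoh.bc f).map (ExtZero.epsE g V))).symm

omit [Etale g'] [EtShriek.JCont g] [EtShriek.JCont g'] in
/-- Direct images commute with base change along etale morphisms. -/
theorem isIso_baseChange0_of_etale (h : IsPullback g' f' f g) (F : EtCoh.Ab X) :
    IsIso (EtCoh.baseChange0 f g f' g' h.w F) := by
  haveI : Etale g' := MorphismProperty.of_isPullback (P := @AlgebraicGeometry.Etale) h.flip ‹Etale g›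
  haveI := ExtZero.jCont g
  haveI := ExtZero.jCont g'
  haveI := isIso_cmpMap h F
  haveI : IsIso (EtCoh.baseChange0 f g f' g' h.w F ≫ (EtCoh.push f').map ((ExtZero.pullRestr g').hom.app F)) := by
    rw [baseChange0_eq]; infer_instance
  exact IsIso.of_isIso_comp_right _ ((EtCoh.push f').map ((ExtZero.pullRestr g').hom.app F))

end Groth.L10.EtLocalBC
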