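import Groth.Agent.L10.EtBCComp.DComp
import Groth.Agent.L10.EtLocalBC.Zero

/-! # Derived base change along etale morphisms -/

universe u

open CategoryTheory CategoryTheory.Limits AlgebraicGeometry

attribute [local instance] HasDerivedCategory.standard

set_option backward.isDefEq.respectTransparency false
set_option backward.isDefEq.respectTransparency.types false
set_option backward.defeqAttrib.useBackward true
set_option linter.style.haveILetI false
set_option synthInstance.maxHeartbeats 100000

noncomputable section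

namespace Groth.L10.EtLocalBC

open Groth.L10.EtBCComp.DComp DerivedCategory

section Adjoint

variable {A B : Type*} [Category A] [Category B] [Preadditive A] [Preadditive B] {L : A ⥤ B} {R : B ⥤ A}
  (adj : L ⊣ R) [L.Additive] [R.Additive] (K : CochainComplex A ℤ) (M : CochainComplex B ℤ)

/-- The unit on complexes. -/
def unitC : K ⟶ (R.mapHomologicalComplex _).obj ((L.mapHomologicalComplex _).obj K) where
  f i := adj.unit.app (K.X i)
  comm' i j _ := (adj.unit.naturality (K.d i j)).symm

/-- The counit on complexes. -/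
def counitC : (L.mapHomologicalComplex _).obj ((R.mapHomologicalComplex _).obj M) ⟶ M where
  f i := adj.counit.app (M.X i)
  comm' i j _ := (adj.counit.naturality (M.d i j)).symm

theorem bijective_homotopy_transpose :
    Function.Bijective (fun x : (HomotopyCategory.quotient _ _).obj ((L.mapHomologicalComplex _).obj K) ⟶
        (HomotopyCategory.quotient B (ComplexShape.up ℤ)).obj M =>
      (HomotopyCategory.quotient _ _).map (unitC adj K) ≫ (R.mapHomotopyCategory _).map x) := by
  refine Function.bijective_iff_has_inverse.2 ⟨fun a => (L.mapHomotopyCategory _).map a ≫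
    (HomotopyCategory.quotient _ _).map (counitC adj M), fun x => ?_, fun a => ?_⟩
  · obtain ⟨x, rfl⟩ := (HomotopyCategory.quotient _ _).map_surjective x
    dsimp only
    erw [Functor.map_comp]
    erw [← Functor.map_comp, ← Functor.map_comp]
    refine congrArg _ (HomologicalComplex.hom_ext _ _ fun i => ?_)
    simp [unitC, counitC]
    erw [adj.counit_naturality, adj.left_triangle_components_assoc]
  · obtain ⟨a, rfl⟩ := (HomotopyCategory.quotient _ _).map_surjective a
    dsimp only
    erw [Functor.map_comp]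
    erw [← Functor.map_comp, ← Functor.map_comp]
    refine congrArg _ (HomologicalComplex.hom_ext _ _ fun i => ?_)
    simp [unitC, counitC]
    erw [adj.right_triangle_components, Category.comp_id]

end Adjoint

variable {X S X' S' : Scheme.{u}} (f : X ⟶ S) (g : S' ⟶ S) (f' : X' ⟶ S') (g' : X' ⟶ X)

theorem isKInjective_pull [Etale g'] (C : CochainComplex (EtCoh.Ab X) ℤ) [C.IsKInjective] :
    CochainComplex.IsKInjective (((EtCoh.pull g').mapHomologicalComplex _).obj C) := by
  haveI := Groth.L27.ExtZero.jCont g'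
  haveI := Groth.L27.ExtZero.preservesFiniteLimits_extZero g'
  exact L10.KInjTransfer.isKInjective_map
    ((EtShriek.extZeroAdj g').ofNatIsoRight (Groth.L27.ExtZero.pullRestr g').symm) C

/-- The termwise base change maps. -/
def bcC (w : g' ≫ f = f' ≫ g) (C : CochainComplex (EtCoh.Ab X) ℤ) :
    ((EtCoh.pull g).mapHomologicalComplex _).obj (((EtCoh.push f).mapHomologicalComplex _).obj C) ⟶
      ((EtCoh.push f').mapHomologicalComplex _).obj (((EtCoh.pull g').mapHomologicalComplex _).obj C) where
  f n := ((EtCoh.pullPushAdj g).homEquiv _ _).symm ((EtBC.pushToPushPull f g f' g' w).app (C.X n))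
  comm' i j _ := by
    refine ((Adjunction.homEquiv_naturality_right_symm _ _ _).symm.trans (Eq.trans ?_
      (Adjunction.homEquiv_naturality_left_symm _ _ _)))
    exact congrArg _ ((EtBC.pushToPushPull f g f' g' w).naturality (C.d i j)).symm

theorem isIso_bcC [Etale g] (h : IsPullback g' f' f g) (C : CochainComplex (EtCoh.Ab X) ℤ) :
    IsIso (bcC f g f' g' h.w C) := by
  haveI : ∀ n, IsIso ((bcC f g f' g' h.w C).f n) := fun n => by
    have e : (bcC f g f' g' h.w C).f n = EtCoh.baseChange0 f g f' g' h.w (C.X n) := by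
      simp only [bcC, EtBC.pushToPushPull, EtCoh.baseChange0]
      congr 1
    rw [e]
    exact isIso_baseChange0_of_etale h _
  exact HomologicalComplex.Hom.isIso_of_components _

variable [DCoh.HasRpushEt X f] [DCoh.HasRpushEt X' f'] [DCoh.HasRpushEt S' g]
  [PreservesFiniteLimits (EtCoh.pull g)] [PreservesFiniteLimits (EtCoh.pull g')]

/-- Derived base change along an etale morphism is an isomorphism. -/
theorem isIso_bcMap_of_etale [Etale g] (h : IsPullback g' f' f g) (adj : EtBC.pullD g ⊣ DCoh.RpushEt S' g)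
    (K : DCoh.DEt X) : IsIso (EtBC.bcMap f g f' g' h.w adj K) := by
  haveI : Etale g' := MorphismProperty.of_isPullback (P := @AlgebraicGeometry.Etale) h.flip ‹Etale g›
  obtain ⟨C, hC, ⟨eK⟩⟩ : ∃ C : CochainComplex (EtCoh.Ab X) ℤ, C.IsKInjective ∧
      Nonempty (Qh.obj ((HomotopyCategory.quotient _ _).obj C) ≅ K) :=
    ⟨_, (((L10.KInjDerived.kInj (EtCoh.Ab X)).ι ⋙ Qh).objPreimage K).property,
      ⟨((L10.KInjDerived.kInj (EtCoh.Ab X)).ι ⋙ Qh).objObjPreimageIso K⟩⟩
  rw [← isIso_bcMap_iff f g f' g' h.w adj eK]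
  let A : HomotopyCategory (EtCoh.Ab X) (ComplexShape.up ℤ) := (HomotopyCategory.quotient _ _).obj C
  haveI := isKInjective_pull g' C
  haveI hUf := L10.KInjDerived.isIso_app_of_isKInjective (U f) A hC
  haveI hUf' := L10.KInjDerived.isIso_app_of_isKInjective (U f') ((P g').obj A) (isKInjective_pull g' C)
  let e : Qh.obj ((H f').obj ((P g').obj A)) ⟶ (DCoh.RpushEt X' f').obj ((EtBC.pullD g').obj (Qh.obj A)) :=
    (U f').app ((P g').obj A) ≫ (DCoh.RpushEt X' f').map ((EtCoh.pull g').mapDerivedCategoryFactorsh.inv.app A)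
  haveI : IsIso e := by infer_instance
  rw [isIso_iff_coyoneda_map_bijective]
  intro M
  obtain ⟨D, hD, ⟨eM⟩⟩ : ∃ D : CochainComplex (EtCoh.Ab S') ℤ, D.IsKInjective ∧
      Nonempty (Qh.obj ((HomotopyCategory.quotient _ _).obj D) ≅ M) :=
    ⟨_, (((L10.KInjDerived.kInj (EtCoh.Ab S')).ι ⋙ Qh).objPreimage M).property,
      ⟨((L10.KInjDerived.kInj (EtCoh.Ab S')).ι ⋙ Qh).objObjPreimageIso M⟩⟩
  let B : HomotopyCategory (EtCoh.Ab S') (ComplexShape.up ℤ) := (HomotopyCategory.quotient _ _).obj D
  haveI hUg := L10.KInjDerived.isIso_app_of_isKInjective (U g) B hD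
  haveI : CochainComplex.IsKInjective (((EtCoh.push g).mapHomologicalComplex _).obj D) :=
    L10.KInjTransfer.isKInjective_map (EtCoh.pullPushAdj g) D
  let Γ : ((H f').obj ((P g').obj A) ⟶ B) → ((H f).obj A ⟶ (H g).obj B) := fun ψ =>
    (EtBC.pushToPushPullH f g f' g' h.w).app A ≫ (H g).map ψ
  have hΓ : Function.Bijective Γ := by
    haveI := isIso_bcC f g f' g' h C
    have hc : unitC (EtCoh.pullPushAdj g) (((EtCoh.push f).mapHomologicalComplex _).obj C) ≫
        ((EtCoh.push g).mapHomologicalComplex _).map (bcC f g f' g' h.w C) =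
        (NatTrans.mapHomologicalComplex (EtBC.pushToPushPull f g f' g' h.w) _).app C :=
      HomologicalComplex.hom_ext _ _ fun n => ((EtCoh.pullPushAdj g).homEquiv_unit _ _ _).symm.trans
        (Equiv.apply_symm_apply _ _)
    have e' : Γ = (fun x => (HomotopyCategory.quotient _ _).map
          (unitC (EtCoh.pullPushAdj g) (((EtCoh.push f).mapHomologicalComplex _).obj C)) ≫ (H g).map x) ∘
        (fun ψ => (HomotopyCategory.quotient _ _).map (bcC f g f' g' h.w C) ≫ ψ) := by
      funext ψ
      refine (congrArg (· ≫ (H g).map ψ) ((pushToPushPullH_app f g f' g' h.w C).trans ?_)).trans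
        ((Category.assoc _ _ _).trans (congrArg (_ ≫ ·) ((H g).map_comp _ _).symm))
      exact (congrArg _ hc.symm).trans ((HomotopyCategory.quotient _ _).map_comp _ _)
    rw [e']
    exact (bijective_homotopy_transpose _ _ _).comp
      (Iso.homFromEquiv (asIso ((HomotopyCategory.quotient _ _).map (bcC f g f' g' h.w C))).symm).bijective
  have hQ : Function.Bijective (fun ψ : (H f').obj ((P g').obj A) ⟶ B => inv e ≫ Qh.map ψ ≫ eM.hom) :=
    (Iso.homFromEquiv (asIso e)).bijective.comp
      ((Iso.homToEquiv eM).bijective.comp (L10.KInjDerived.qh_bijective _ ⟨B, hD⟩))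
  let Rg := DCoh.RpushEt S' g
  let Φ : ((H f).obj A ⟶ (H g).obj B) → ((DCoh.RpushEt X f).obj (Qh.obj A) ⟶ Rg.obj M) := fun m =>
    inv ((U f).app A) ≫ Qh.map m ≫ (U g).app B ≫ Rg.map eM.hom
  have hΦ : Function.Bijective Φ :=
    (Iso.homFromEquiv (asIso ((U f).app A))).bijective.comp ((Iso.homToEquiv (asIso ((U g).app B ≫ Rg.map eM.hom))).bijective.comp
      (L10.KInjDerived.qh_bijective _ ⟨(H g).obj B, ‹_›⟩))
  have key : ∀ ψ, (EtBC.bcAdj f g f' g' h.w).app (Qh.obj A) ≫ Rg.map (inv e ≫ Qh.map ψ ≫ eM.hom) = Φ (Γ ψ) := by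
    intro ψ
    rw [← cancel_epi ((U f).app A)]
    simp only [Φ, IsIso.hom_inv_id_assoc]
    rw [reassoc_of% (U_fac f g f' g' h.w A), bcUnit_app]
    simp only [Category.assoc, ← Functor.map_comp]
    erw [← Functor.map_comp (DCoh.RpushEt S' g) e, IsIso.hom_inv_id_assoc]
    simp only [Functor.map_comp]
    simp only [Γ, Functor.map_comp, Category.assoc]
    refine congrArg (Qh.map _ ≫ ·) ?_
    exact ((U g).naturality_assoc ψ (Rg.map eM.hom)).symm
  have hb : Function.Bijective (fun φ : (DCoh.RpushEt X' f').obj ((EtBC.pullD g').obj (Qh.obj A)) ⟶ M =>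
      (EtBC.bcAdj f g f' g' h.w).app (Qh.obj A) ≫ Rg.map φ) := by
    refine (Function.Bijective.of_comp_iff _ hQ).1 ?_
    rw [show (fun φ : (DCoh.RpushEt X' f').obj ((EtBC.pullD g').obj (Qh.obj A)) ⟶ M => (EtBC.bcAdj f g f' g' h.w).app (Qh.obj A) ≫ Rg.map φ) ∘
        (fun ψ : (H f').obj ((P g').obj A) ⟶ B => inv e ≫ Qh.map ψ ≫ eM.hom) = Φ ∘ Γ from funext key]
    exact hΦ.comp hΓ
  have heq : (fun φ => EtBC.bcMap f g f' g' h.w adj (Qh.obj A) ≫ φ) = (adj.homEquiv _ M).symm ∘
      (fun φ => (EtBC.bcAdj f g f' g' h.w).app (Qh.obj A) ≫ Rg.map φ) :=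
    funext fun φ => (adj.homEquiv_naturality_right_symm _ φ).symm
  show Function.Bijective (fun φ => EtBC.bcMap f g f' g' h.w adj (Qh.obj A) ≫ φ)
  rw [heq]
  exact (Equiv.bijective _).comp hb

end Groth.L10.EtLocalBC
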