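import Groth.Agent.L10.EtLocalBC.DerEtale
import Groth.Agent.L10.DerivedAdj
import Groth.Agent.L29.Dual.ExactHomology
import Groth.Agent.L27.EtSite.Pull

/-! # Derived base change maps are etale local -/

universe u

open CategoryTheory CategoryTheory.Limits AlgebraicGeometry Opposite

attribute [local instance] HasDerivedCategory.standard

set_option backward.isDefEq.respectTransparency false
set_option backward.isDefEq.respectTransparency.types false
set_option backward.defeqAttrib.useBackward true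
set_option linter.style.haveILetI false
set_option synthInstance.maxHeartbeats 100000

noncomputable section

namespace Groth.L10.EtLocalBC

open Groth.L10.EtBCComp.DComp DerivedCategory

variable {X : Scheme.{u}}

/-- A sheaf vanishes if its inverse images to an etale covering vanish. -/
theorem isZero_of_covers {ι : Type u} (U : ι → X.Etale) (hU : EtCoh.Covers U) (K : EtCoh.Ab X)
    (h : ∀ i, IsZero ((EtCoh.pull (U i).hom).obj K)) : IsZero K := by
  have key : ∀ (V : X.Etale) (s : K.obj.obj (op V)), s = 0 := fun V s => by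
    refine Groth.L27.EtSite.ext_of_locally K fun x => ?_
    obtain ⟨i, y, hy⟩ := hU (V.hom x)
    haveI : Etale (U i).hom := (U i).prop
    haveI := Groth.L27.ExtZero.jCont (U i).hom
    obtain ⟨z, hz, -⟩ := Scheme.Pullback.exists_preimage_pullback (f := V.hom) (g := (U i).hom) x y hy.symm
    let W := (EtCoh.bc (U i).hom).obj V
    refine ⟨(EtShriek.compEtale (U i).hom).obj W, Groth.L27.ExtZero.epsE (U i).hom V, z, hz, ?_⟩
    have hz0 : IsZero ((EtShriek.restrAlong (U i).hom).obj K) :=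
      IsZero.of_iso (h i) ((Groth.L27.ExtZero.pullRestr (U i).hom).app K).symm
    have hzW : IsZero (((EtShriek.restrAlong (U i).hom).obj K).obj.obj (op W)) :=
      Functor.map_isZero (sheafToPresheaf _ _ ⋙ (evaluation _ _).obj (op W)) hz0
    haveI := AddCommGrpCat.subsingleton_of_isZero hzW
    exact Subsingleton.elim (α := ↑(((EtShriek.restrAlong (U i).hom).obj K).obj.obj (op W))) _ _
  rw [IsZero.iff_id_eq_zero]
  refine ObjectProperty.hom_ext _ (NatTrans.ext (funext fun V => ConcreteCategory.hom_ext _ _ fun s => ?_))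
  exact key V.unop s

/-- Isomorphisms of abelian sheaves are detected on etale coverings. -/
theorem isIso_ab_of_covers {ι : Type u} (U : ι → X.Etale) (hU : EtCoh.Covers U) {A B : EtCoh.Ab X} (α : A ⟶ B)
    (h : ∀ i, IsIso ((EtCoh.pull (U i).hom).map α)) : IsIso α := by
  haveI : Mono α := by
    refine Preadditive.mono_of_isZero_kernel _ (isZero_of_covers U hU _ fun i => ?_)
    haveI := h i
    haveI := Groth.L27.EtSite.preservesFiniteLimits_pull (U i).hom
    exact IsZero.of_iso (isZero_kernel_of_mono ((EtCoh.pull (U i).hom).map α))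
      (PreservesKernel.iso (EtCoh.pull (U i).hom) α)
  haveI : Epi α := by
    refine Preadditive.epi_of_isZero_cokernel _ (isZero_of_covers U hU _ fun i => ?_)
    haveI := h i
    exact IsZero.of_iso (isZero_cokernel_of_epi ((EtCoh.pull (U i).hom).map α))
      (PreservesCokernel.iso (EtCoh.pull (U i).hom) α)
  exact isIso_of_mono_of_epi α

/-- Isomorphisms in the derived category are detected on etale coverings. -/
theorem isIso_derived_of_covers {ι : Type u} (U : ι → X.Etale) (hU : EtCoh.Covers U)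
    [∀ i, PreservesFiniteLimits (EtCoh.pull (U i).hom)] {A B : DCoh.DEt X} (α : A ⟶ B)
    (h : ∀ i, IsIso ((EtBC.pullD (U i).hom).map α)) : IsIso α := by
  rw [DerivedCategory.isIso_iff]
  intro n
  refine isIso_ab_of_covers U hU _ fun i => ?_
  haveI := h i
  exact (NatIso.isIso_map_iff (Groth.L29.ExactHomology.hIso (EtCoh.pull (U i).hom) n) α).1
    (Functor.map_isIso (DerivedCategory.homologyFunctor _ n) ((EtBC.pullD (U i).hom).map α))

theorem hasRpushEt {Y Z : Scheme.{u}} (f : Y ⟶ Z) : DCoh.HasRpushEt Y f :=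
  L10.KInjDerived.hasRightDerivedFunctor _

/-- The derived adjunction. -/
def adjEt {Y Z : Scheme.{u}} (f : Y ⟶ Z) [PreservesFiniteLimits (EtCoh.pull f)] [DCoh.HasRpushEt Y f] :
    EtBC.pullD f ⊣ DCoh.RpushEt Y f :=
  L10.DerivedAdj.derived (EtCoh.pullPushAdj f) (DCoh.RpushEt Y f) (U f)

variable {S Y T : Scheme.{u}} (g : T ⟶ S) {f₁ f₂ : X ⟶ S} {e₁ e₂ : Y ⟶ T} (h : Y ⟶ X)

theorem isIso_bcMap_congr (hf : f₁ = f₂) (he : e₁ = e₂) [DCoh.HasRpushEt T g] [DCoh.HasRpushEt Y h]
    [PreservesFiniteLimits (EtCoh.pull f₁)] [PreservesFiniteLimits (EtCoh.pull e₁)] [DCoh.HasRpushEt X f₁]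
    [PreservesFiniteLimits (EtCoh.pull f₂)] [PreservesFiniteLimits (EtCoh.pull e₂)] [DCoh.HasRpushEt X f₂]
    (w₁ : e₁ ≫ g = h ≫ f₁) (w₂ : e₂ ≫ g = h ≫ f₂) (K : DCoh.DEt T)
    (hiso : IsIso (EtBC.bcMap g f₁ h e₁ w₁ (adjEt f₁) K)) : IsIso (EtBC.bcMap g f₂ h e₂ w₂ (adjEt f₂) K) := by
  subst hf he
  exact hiso

variable (f : X ⟶ S) (e : Y ⟶ T)

/-- Derived base change maps restricted to compatible etale neighbourhoods. -/
theorem isIso_pullD_map_bcMap (c : IsPullback e h g f) [PreservesFiniteLimits (EtCoh.pull e)]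
    [PreservesFiniteLimits (EtCoh.pull f)] [DCoh.HasRpushEt T g] [DCoh.HasRpushEt Y h] [DCoh.HasRpushEt X f]
    (adj : EtBC.pullD f ⊣ DCoh.RpushEt X f) (K : DCoh.DEt T)
    {U V T' Y' : Scheme.{u}} (u : U ⟶ X) [Etale u] (v : V ⟶ S) [Etale v] (a : U ⟶ V) (ha : a ≫ v = u ≫ f)
    (t : T' ⟶ T) (g' : T' ⟶ V) (cT : IsPullback t g' g v) (h' : Y' ⟶ U) (e' : Y' ⟶ T') (cY : IsPullback e' h' g' a)
    [PreservesFiniteLimits (EtCoh.pull u)]
    [PreservesFiniteLimits (EtCoh.pull e')] [PreservesFiniteLimits (EtCoh.pull a)] [PreservesFiniteLimits (EtCoh.pull t)]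
    [DCoh.HasRpushEt T' g'] [DCoh.HasRpushEt Y' h'] [DCoh.HasRpushEt U a]
    (adja : EtBC.pullD a ⊣ DCoh.RpushEt U a)
    (hloc : IsIso (EtBC.bcMap g' a h' e' cY.w adja ((EtBC.pullD t).obj K))) :
    IsIso ((EtBC.pullD u).map (EtBC.bcMap g f h e c.w adj K)) := by
  have cb : IsPullback (e' ≫ t) h' g (u ≫ f) := ha ▸ cY.paste_horiz cT
  obtain ⟨y, hye, hyh⟩ : ∃ y : Y' ⟶ Y, y ≫ e = e' ≫ t ∧ y ≫ h = h' ≫ u :=
    ⟨c.lift (e' ≫ t) (h' ≫ u) (cb.w.trans (Category.assoc _ _ _).symm), c.lift_fst _ _ _, c.lift_snd _ _ _⟩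
  have cy : IsPullback y h' h u := IsPullback.of_right (by rw [hye]; exact cb) hyh c
  haveI := Groth.L27.EtSite.preservesFiniteLimits_pull v
  haveI := Groth.L27.EtSite.preservesFiniteLimits_pull y
  haveI := Groth.L27.EtSite.preservesFiniteLimits_pull (a ≫ v)
  haveI := Groth.L27.EtSite.preservesFiniteLimits_pull (u ≫ f)
  haveI := Groth.L27.EtSite.preservesFiniteLimits_pull (e' ≫ t)
  haveI := Groth.L27.EtSite.preservesFiniteLimits_pull (y ≫ e)
  haveI := hasRpushEt v
  haveI := hasRpushEt u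
  haveI := hasRpushEt (a ≫ v)
  haveI := hasRpushEt (u ≫ f)
  have h1 : IsIso (EtBC.bcMap g v g' t cT.w (adjEt v) K) := isIso_bcMap_of_etale g v g' t cT (adjEt v) K
  have w₃ : (e' ≫ t) ≫ g = h' ≫ (a ≫ v) := (cY.paste_horiz cT).w
  have h3 : IsIso (EtBC.bcMap g (a ≫ v) h' (e' ≫ t) w₃ (adjEt (a ≫ v)) K) :=
    isIso_bcMap_vcomp v g g' t a h' e' (adjEt v) adja (adjEt (a ≫ v)) cT.w cY.w w₃ K h1 hloc
  have w₄ : (y ≫ e) ≫ g = h' ≫ (u ≫ f) := by rw [hye]; exact cb.w
  have h4 : IsIso (EtBC.bcMap g (u ≫ f) h' (y ≫ e) w₄ (adjEt (u ≫ f)) K) :=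
    isIso_bcMap_congr g h' ha hye.symm w₃ w₄ K h3
  have h2 : IsIso (EtBC.bcMap h u h' y cy.w (adjEt u) ((EtBC.pullD e).obj K)) :=
    isIso_bcMap_of_etale h u h' y cy (adjEt u) _
  exact (isIso_bcMap_vcomp_iff f g h e u h' y adj (adjEt u) (adjEt (u ≫ f)) c.w cy.w w₄ K h2).1 h4

end Groth.L10.EtLocalBC
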