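import Groth.Agent.L10.EtBCComp.RDerSquare
import Groth.Agent.L27.StalkRpush.PreComp

/-! # Transposed comparison maps of squares with exact left adjoints are isomorphisms -/

universe v v₁ v₂ v₃ u u₁ u₂ u₃

open CategoryTheory CategoryTheory.Limits HomologicalComplex

set_option backward.isDefEq.respectTransparency false
set_option backward.defeqAttrib.useBackward true
set_option backward.isDefEq.respectTransparency.types false
set_option linter.style.haveILetI false

noncomputable section

namespace Groth.L10.EtLocalBC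

open Groth.L10.EtBCComp

section Exact

variable {B : Type u₂} [Category.{v₂} B] [Abelian B] {B' : Type u₃} [Category.{v₃} B'] [Abelian B']
  (L : B ⥤ B') [L.Additive] [PreservesFiniteLimits L] [PreservesFiniteColimits L] (K : CochainComplex B ℕ) (q : ℕ)

theorem isIso_cyclesComparison : IsIso (RDer.cyclesComparison L K q) := by
  let h₁ := ((L.mapHomologicalComplex _).obj K).cyclesIsKernel q ((ComplexShape.up ℕ).next q) rfl
  let h₂ := KernelFork.mapIsLimit _ (K.cyclesIsKernel q ((ComplexShape.up ℕ).next q) rfl) L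
  exact (inferInstance : IsIso (h₁.conePointUniqueUpToIso h₂).hom)

theorem isIso_homologyComparison : IsIso (RDer.homologyComparison L K q) := by
  haveI := isIso_cyclesComparison L K q
  let hc := CokernelCofork.mapIsColimit _ (K.homologyIsCokernel ((ComplexShape.up ℕ).prev q) q rfl) L
  have w : L.map (K.toCycles ((ComplexShape.up ℕ).prev q) q) ≫ inv (RDer.cyclesComparison L K q) ≫
      ((L.mapHomologicalComplex _).obj K).homologyπ q = 0 := by
    rw [← RDer.toCycles_cyclesComparison, Category.assoc, IsIso.hom_inv_id_assoc, toCycles_comp_homologyπ]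
  let b : L.obj (K.homology q) ⟶ ((L.mapHomologicalComplex _).obj K).homology q := hc.desc (CokernelCofork.ofπ _ w)
  have hb : L.map (K.homologyπ q) ≫ b =
      inv (RDer.cyclesComparison L K q) ≫ ((L.mapHomologicalComplex _).obj K).homologyπ q :=
    hc.fac _ WalkingParallelPair.one
  refine ⟨b, ?_, ?_⟩
  · rw [← cancel_epi (((L.mapHomologicalComplex _).obj K).homologyπ q), RDer.homologyπ_homologyComparison_assoc, hb,
      IsIso.hom_inv_id_assoc, Category.comp_id]
  · rw [← cancel_epi (L.map (K.homologyπ q)), reassoc_of% hb, RDer.homologyπ_homologyComparison, IsIso.inv_hom_id_assoc,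
      Category.comp_id]

theorem homologyComparison_id (M : CochainComplex B ℕ) :
    RDer.homologyComparison (𝟭 B) M q = (homologyFunctor B _ q).map (Functor.mapHomologicalComplexIdIso B _ |>.hom.app M) := by
  rw [← cancel_epi ((((𝟭 B).mapHomologicalComplex _).obj M).homologyπ q), RDer.homologyπ_homologyComparison,
    homologyFunctor_map, homologyπ_naturality]
  refine congrArg (· ≫ M.homologyπ q) ?_
  rw [← cancel_mono (M.iCycles q)]
  erw [cyclesMap_i]
  refine (RDer.cyclesComparison_i (𝟭 B) M q).trans ?_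
  simp

variable {L} {Ψ : B' ⥤ B} [Ψ.Additive] [PreservesFiniteLimits Ψ] (adj : L ⊣ Ψ)

/-- The unit on complexes. -/
def unitN : K ⟶ (Ψ.mapHomologicalComplex _).obj ((L.mapHomologicalComplex _).obj K) where
  f i := adj.unit.app (K.X i)
  comm' i j _ := (adj.unit.naturality (K.d i j)).symm

theorem isIso_transpose_comparison :
    IsIso ((adj.homEquiv _ _).symm ((homologyFunctor B _ q).map (unitN K adj) ≫
      RDer.homologyComparison Ψ ((L.mapHomologicalComplex _).obj K) q)) := by
  haveI : PreservesFiniteLimits (L ⋙ Ψ) := comp_preservesFiniteLimits _ _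
  haveI := isIso_homologyComparison L K q
  have e : (adj.homEquiv _ _).symm ((homologyFunctor B _ q).map (unitN K adj) ≫
      RDer.homologyComparison Ψ ((L.mapHomologicalComplex _).obj K) q) ≫ RDer.homologyComparison L K q = 𝟙 _ := by
    rw [← Adjunction.homEquiv_naturality_right_symm, Category.assoc, ← homologyComparison_comp,
      Equiv.symm_apply_eq]
    refine Eq.trans ?_ (adj.homEquiv_id (K.homology q)).symm
    have h := homologyComparison_iso (Ψ := 𝟭 B) (Ψ' := L ⋙ Ψ) q adj.unit K
    rw [homologyComparison_id] at h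
    refine Eq.trans ?_ (Category.id_comp _)
    refine Eq.trans ?_ (Eq.trans h (congrArg (· ≫ adj.unit.app (K.homology q)) ?_))
    · exact congrArg (fun z => z ≫ RDer.homologyComparison (L ⋙ Ψ) K q)
        (congrArg (homologyFunctor B _ q).map (HomologicalComplex.hom_ext _ _ fun i => rfl))
    · exact CategoryTheory.Functor.map_id _ _
  exact IsIso.of_isIso_fac_right e

end Exact

section Square

variable {A : Type u} [Category.{v} A] [Abelian A] [HasInjectiveResolutions A]
  {A' : Type u₁} [Category.{v₁} A'] [Abelian A'] [HasInjectiveResolutions A']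
  {B : Type u₂} [Category.{v₂} B] [Abelian B] {B' : Type u₃} [Category.{v₃} B'] [Abelian B']
  (E : A' ⥤ A) [E.Additive] [E.PreservesInjectiveObjects] (Φ : A ⥤ B) [Φ.Additive]
  (Φ' : A' ⥤ B') [Φ'.Additive] (Ψ : B' ⥤ B) [Ψ.Additive] [PreservesFiniteLimits Ψ]
  (σ : E ⋙ Φ ≅ Φ' ⋙ Ψ) (q : ℕ)
  {LE : A ⥤ A'} [LE.Additive] [PreservesFiniteLimits LE] [PreservesFiniteColimits LE] [LE.PreservesInjectiveObjects]
  (adjE : LE ⊣ E) {L : B ⥤ B'} [L.Additive] [PreservesFiniteLimits L] [PreservesFiniteColimits L] (adj : L ⊣ Ψ)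

/-- The mapped resolution. -/
def mapRes {X : A} (I : InjectiveResolution X) : InjectiveResolution (LE.obj X) where
  cocomplex := (LE.mapHomologicalComplex _).obj I.cocomplex
  injective n := LE.injective_obj_of_injective (I.injective n)
  ι := RDer.mapAug LE I.ι

/-- The transposed termwise comparison. -/
def sqC (C : CochainComplex A ℕ) : (L.mapHomologicalComplex _).obj ((Φ.mapHomologicalComplex _).obj C) ⟶
    (Φ'.mapHomologicalComplex _).obj ((LE.mapHomologicalComplex _).obj C) where
  f n := (adj.homEquiv _ _).symm (Φ.map (adjE.unit.app (C.X n)) ≫ σ.hom.app (LE.obj (C.X n)))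
  comm' i j _ := by
    refine ((Adjunction.homEquiv_naturality_right_symm _ _ _).symm.trans (Eq.trans ?_
      (Adjunction.homEquiv_naturality_left_symm _ _ _)))
    refine congrArg _ ?_
    simp only [Functor.mapHomologicalComplex_obj_d, Category.assoc]
    rw [← Functor.map_comp_assoc, ← show adjE.unit.app (C.X i) ≫ E.map (LE.map (C.d i j)) =
      C.d i j ≫ adjE.unit.app (C.X j) from (adjE.unit.naturality (C.d i j)).symm, Φ.map_comp, Category.assoc]
    exact congrArg (Φ.map (adjE.unit.app (C.X i)) ≫ ·) (σ.hom.naturality (LE.map (C.d i j))).symm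

/-- The transpose of the comparison map of a square with invertible termwise transposes is invertible. -/
theorem isIso_transpose_sqMap
    (hσ : ∀ M : A, IsIso ((adj.homEquiv _ _).symm (Φ.map (adjE.unit.app M) ≫ σ.hom.app (LE.obj M)))) (X : A) :
    IsIso ((adj.homEquiv _ _).symm (sqMap E Φ Φ' Ψ σ q (adjE.unit.app X))) := by
  let I := injectiveResolution X
  let I' := injectiveResolution (LE.obj X)
  let J := mapRes (LE := LE) I
  let ψ : J.cocomplex ⟶ I'.cocomplex := InjectiveResolution.desc (𝟙 (LE.obj X)) I' J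
  have hψ : J.ι.f 0 ≫ ψ.f 0 = I'.ι.f 0 :=
    (InjectiveResolution.desc_commutes_zero (𝟙 (LE.obj X)) I' J).trans (Category.id_comp _)
  have hJ : LE.map (I.ι.f 0) = J.ι.f 0 := (Groth.L27.StalkRpush.mapAug_f_zero LE I).symm
  let χ : I.cocomplex ⟶ (E.mapHomologicalComplex _).obj I'.cocomplex :=
    unitN I.cocomplex adjE ≫ (E.mapHomologicalComplex _).map ψ
  have hχ : I.ι.f 0 ≫ χ.f 0 = adjE.unit.app X ≫ E.map (I'.ι.f 0) := by
    show I.ι.f 0 ≫ adjE.unit.app (I.cocomplex.X 0) ≫ E.map (ψ.f 0) = _
    rw [← hψ, E.map_comp, ← hJ, ← Category.assoc, ← Category.assoc]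
    exact congrArg (· ≫ E.map (ψ.f 0)) (adjE.unit.naturality (I.ι.f 0))
  let β := sqC E Φ Φ' Ψ σ adjE adj I.cocomplex ≫ (Φ'.mapHomologicalComplex _).map ψ
  have hβ : unitN ((Φ.mapHomologicalComplex _).obj I.cocomplex) adj ≫ (Ψ.mapHomologicalComplex _).map β =
      (Φ.mapHomologicalComplex _).map χ ≫ (NatTrans.mapHomologicalComplex σ.hom _).app I'.cocomplex := by
    refine HomologicalComplex.hom_ext _ _ fun n => ?_
    show adj.unit.app _ ≫ Ψ.map ((adj.homEquiv _ _).symm _ ≫ Φ'.map (ψ.f n)) =
      Φ.map (adjE.unit.app (I.cocomplex.X n) ≫ E.map (ψ.f n)) ≫ σ.hom.app _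
    rw [Ψ.map_comp, ← Category.assoc]
    erw [← Adjunction.homEquiv_unit, Equiv.apply_symm_apply]
    rw [Φ.map_comp, Category.assoc, Category.assoc]
    exact congrArg (Φ.map (adjE.unit.app (I.cocomplex.X n)) ≫ ·) (σ.hom.naturality (ψ.f n)).symm
  rw [sqMap_eq E Φ Φ' Ψ σ q _ χ hχ, ← Functor.map_comp_assoc, ← hβ, Functor.map_comp, Category.assoc,
    homologyComparison_naturality_assoc, Adjunction.homEquiv_naturality_left_symm, ← Category.assoc,
    ← Ψ.map_comp, Adjunction.homEquiv_naturality_right_symm]
  haveI := isIso_transpose_comparison ((Φ.mapHomologicalComplex _).obj I.cocomplex) q adj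
  haveI : IsIso ((homologyFunctor B' _ q).map β) := by
    haveI : IsIso (sqC E Φ Φ' Ψ σ adjE adj I.cocomplex) := by
      haveI : ∀ n, IsIso ((sqC E Φ Φ' Ψ σ adjE adj I.cocomplex).f n) := fun n => hσ _
      exact HomologicalComplex.Hom.isIso_of_components _
    have hn := InjectiveResolution.isoRightDerivedObj_hom_naturality (𝟙 (LE.obj X)) J I' ψ
      (InjectiveResolution.desc_commutes_zero (𝟙 (LE.obj X)) I' J) Φ' q
    rw [CategoryTheory.Functor.map_id, Category.id_comp] at hn
    haveI : IsIso ((J.isoRightDerivedObj Φ' q).hom ≫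
        (homologyFunctor B' _ q).map ((Φ'.mapHomologicalComplex _).map ψ)) := by
      rw [Functor.comp_map] at hn
      rw [← hn]; infer_instance
    haveI : IsIso ((homologyFunctor B' _ q).map ((Φ'.mapHomologicalComplex _).map ψ)) :=
      IsIso.of_isIso_comp_left (J.isoRightDerivedObj Φ' q).hom _
    rw [Functor.map_comp]
    infer_instance
  infer_instance

end Square

end Groth.L10.EtLocalBC
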