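import Groth.Agent.L10.EtBCComp.VComp
import Groth.Agent.L10.EtLocalBC.SqIso
import Groth.Agent.L10.EtLocalBC.DerLocal

/-! # Base change maps in each degree are etale local -/

universe u

open CategoryTheory CategoryTheory.Limits AlgebraicGeometry

set_option backward.isDefEq.respectTransparency false
set_option backward.isDefEq.respectTransparency.types false
set_option backward.defeqAttrib.useBackward true
set_option linter.style.haveILetI false

noncomputable section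

namespace Groth.L10.EtLocalBC

open Groth.L10.EtBCComp

/-- Base change maps in each degree along etale morphisms are isomorphisms. -/
theorem isIso_bcQ_of_etale {X S X' S' : Scheme.{u}} (f : X ⟶ S) (g : S' ⟶ S) (f' : X' ⟶ S') (g' : X' ⟶ X) [Etale g]
    (h : IsPullback g' f' f g) [PreservesFiniteLimits (EtCoh.pull g')] (q : ℕ) (F : EtCoh.Ab X) :
    IsIso (EtBC.bcQ f g f' g' h.w q F) := by
  haveI : Etale g' := MorphismProperty.of_isPullback (P := @AlgebraicGeometry.Etale) h.flip ‹Etale g›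
  haveI := Groth.L27.ExtZero.jCont g'
  haveI := Groth.L27.EtSite.preservesFiniteLimits_pull g
  haveI : (EtCoh.pull g').PreservesInjectiveObjects := ⟨fun {I} hI => by
    haveI := hI
    exact Groth.L27.ExtZero.injective_pull g' I⟩
  rw [EtBC.bcQ, bcQAdj_eq]
  refine isIso_transpose_sqMap (EtCoh.push g') (EtCoh.push f) (EtCoh.push f') (EtCoh.push g) (sqIso f g f' g' h.w) q
    (EtCoh.pullPushAdj g') (EtCoh.pullPushAdj g) (fun M => ?_) F
  have e : ((EtCoh.pullPushAdj g).homEquiv _ _).symm ((EtCoh.push f).map ((EtCoh.pullPushAdj g').unit.app M) ≫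
      (sqIso f g f' g' h.w).hom.app ((EtCoh.pull g').obj M)) = EtCoh.baseChange0 f g f' g' h.w M := by
    simp only [sqIso, EtCoh.baseChange0, Iso.trans_hom, Iso.symm_hom, NatTrans.comp_app]
    rfl
  exact e.symm ▸ isIso_baseChange0_of_etale h M

variable {X S Y T : Scheme.{u}} (g : T ⟶ S) {f₁ f₂ : X ⟶ S} {e₁ e₂ : Y ⟶ T} (h : Y ⟶ X)

theorem isIso_bcQ_congr (hf : f₁ = f₂) (he : e₁ = e₂) [PreservesFiniteLimits (EtCoh.pull e₁)]
    [PreservesFiniteLimits (EtCoh.pull e₂)] (w₁ : e₁ ≫ g = h ≫ f₁) (w₂ : e₂ ≫ g = h ≫ f₂) (q : ℕ) (F : EtCoh.Ab T)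
    (hiso : IsIso (EtBC.bcQ g f₁ h e₁ w₁ q F)) : IsIso (EtBC.bcQ g f₂ h e₂ w₂ q F) := by
  subst hf he
  exact hiso

variable (f : X ⟶ S) (e : Y ⟶ T)

/-- Base change maps in each degree restricted to compatible etale neighbourhoods. -/
theorem isIso_pull_map_bcQ (c : IsPullback e h g f) [PreservesFiniteLimits (EtCoh.pull e)] (F : EtCoh.Ab T) (q : ℕ)
    {U V T' Y' : Scheme.{u}} (u : U ⟶ X) [Etale u] (v : V ⟶ S) [Etale v] (a : U ⟶ V) (ha : a ≫ v = u ≫ f)
    (t : T' ⟶ T) (g' : T' ⟶ V) (cT : IsPullback t g' g v) (h' : Y' ⟶ U) (e' : Y' ⟶ T') (cY : IsPullback e' h' g' a)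
    [PreservesFiniteLimits (EtCoh.pull e')]
    (hloc : IsIso (EtBC.bcQ g' a h' e' cY.w q ((EtCoh.pull t).obj F))) :
    IsIso ((EtCoh.pull u).map (EtBC.bcQ g f h e c.w q F)) := by
  have cb : IsPullback (e' ≫ t) h' g (u ≫ f) := ha ▸ cY.paste_horiz cT
  obtain ⟨y, hye, hyh⟩ : ∃ y : Y' ⟶ Y, y ≫ e = e' ≫ t ∧ y ≫ h = h' ≫ u :=
    ⟨c.lift (e' ≫ t) (h' ≫ u) (cb.w.trans (Category.assoc _ _ _).symm), c.lift_fst _ _ _, c.lift_snd _ _ _⟩
  have cy : IsPullback y h' h u := IsPullback.of_right (by rw [hye]; exact cb) hyh c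
  haveI := Groth.L27.EtSite.preservesFiniteLimits_pull t
  haveI := Groth.L27.EtSite.preservesFiniteLimits_pull y
  haveI := Groth.L27.EtSite.preservesFiniteLimits_pull (e' ≫ t)
  haveI := Groth.L27.EtSite.preservesFiniteLimits_pull (y ≫ e)
  have h1 : IsIso (EtBC.bcQ g v g' t cT.w q F) := isIso_bcQ_of_etale g v g' t cT q F
  have w₃ : (e' ≫ t) ≫ g = h' ≫ (a ≫ v) := (cY.paste_horiz cT).w
  have h3 : IsIso (EtBC.bcQ g (a ≫ v) h' (e' ≫ t) w₃ q F) :=
    isIso_bcQ_vcomp v g g' t a h' e' cT.w cY.w w₃ F q h1 hloc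
  have w₄ : (y ≫ e) ≫ g = h' ≫ (u ≫ f) := by rw [hye]; exact cb.w
  have h4 : IsIso (EtBC.bcQ g (u ≫ f) h' (y ≫ e) w₄ q F) := isIso_bcQ_congr g h' ha hye.symm w₃ w₄ q F h3
  have h2 : IsIso (EtBC.bcQ h u h' y cy.w q ((EtCoh.pull e).obj F)) := isIso_bcQ_of_etale h u h' y cy q _
  exact (isIso_bcQ_vcomp_iff f g h e u h' y c.w cy.w w₄ F q h2).1 h4

end Groth.L10.EtLocalBC
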