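import Groth.Agent.L27.EffDesc.EtaleBC
import Groth.Prelude.Def_EtBase
import Mathlib.CategoryTheory.Sites.LocallyBijective

/-! # Base change of sheaves of sets is etale local -/

universe u

open CategoryTheory CategoryTheory.Limits AlgebraicGeometry Opposite

set_option autoImplicit false
set_option backward.isDefEq.respectTransparency.types false
set_option linter.style.haveILetI false
set_option maxHeartbeats 1000000

noncomputable section

namespace Groth.L10.EtLocalBC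

open Groth.L27.EtSite Groth.L27.EffDesc

attribute [local irreducible] el

variable {X S Y T : Scheme.{u}}

/-- A map of sheaves is bijective over etale schemes along which its inverse image is an isomorphism. -/
theorem bijective_app_shriek {A B : EtDesc.Sh X} (α : A ⟶ B) {U : Scheme.{u}} (u : U ⟶ X) [Etale u]
    [IsIso ((EtDesc.pullSh u).map α)] (W : U.Etale) : Function.Bijective (α.hom.app (op (shriek u W))) := by
  have key : ∀ t, ((EtDesc.pullSh u).map α).hom.app (op W) (restr u A W t) = restr u B W (α.hom.app (op (shriek u W)) t) :=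
    fun t => app_el u A α (U := shriek u W) (𝟙 W.left) (id_w u W) t
  haveI : IsIso (((sheafToPresheaf _ _).map ((EtDesc.pullSh u).map α)).app (op W)) := inferInstance
  have hb : Function.Bijective (((EtDesc.pullSh u).map α).hom.app (op W)) :=
    (CategoryTheory.isIso_iff_bijective _).1 ‹_›
  refine ⟨fun s t e => restr_injective u A W (hb.1 ((key s).trans ((congrArg _ e).trans (key t).symm))), fun y => ?_⟩
  obtain ⟨z, hz⟩ := hb.2 (restr u B W y)
  obtain ⟨t, rfl⟩ := restr_surjective u A W z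
  exact ⟨t, restr_injective u B W ((key t).symm.trans hz)⟩

/-- Isomorphisms are detected on etale coverings. -/
theorem isIso_of_covers {A B : EtDesc.Sh X} (α : A ⟶ B) {ι : Type u} (U : ι → X.Etale) (hU : EtCoh.Covers U)
    [∀ i, IsIso ((EtDesc.pullSh (U i).hom).map α)] : IsIso α := by
  have hloc : ∀ (V : X.Etale) (x : V.left), ∃ (i : ι) (W : (U i).left.Etale) (_ : Etale (U i).hom)
      (c : shriek (U i).hom W ⟶ V) (w : W.left), c.left w = x := fun V x => by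
    obtain ⟨i, y, hy⟩ := hU (V.hom x)
    haveI : Etale (U i).hom := (U i).prop
    obtain ⟨z, hz, -⟩ := Scheme.Pullback.exists_preimage_pullback (f := V.hom) (g := (U i).hom) x y hy.symm
    exact ⟨i, (EtCoh.bc (U i).hom).obj V, inferInstance,
      MorphismProperty.Over.homMk (pullback.fst V.hom (U i).hom) pullback.condition, z, hz⟩
  have hinj : ∀ V : X.Etale, Function.Injective (α.hom.app (op V)) := fun V s t e => by
    refine Groth.L27.EffDesc.sect_ext A fun x => ?_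
    obtain ⟨i, W, _, c, w, hw⟩ := hloc V x
    refine ⟨_, c, w, hw, (bijective_app_shriek α (U i).hom W).1 ?_⟩
    rw [NatTrans.naturality_apply, NatTrans.naturality_apply, e]
  haveI : Sheaf.IsLocallyInjective α := by
    exact Presheaf.isLocallyInjective_of_injective X.smallEtaleTopology α.hom fun W => hinj W.unop
  haveI : Sheaf.IsLocallySurjective α := by
    refine ⟨fun {V} s => (mem_topology_iff _).2 fun x => ?_⟩
    obtain ⟨i, W, _, c, w, hw⟩ := hloc V x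
    obtain ⟨t, ht⟩ := (bijective_app_shriek α (U i).hom W).2 (B.obj.map c.op s)
    exact ⟨_, c, w, ⟨t, ht⟩, hw⟩
  exact (Sheaf.isLocallyBijective_iff_isIso α).1 ⟨inferInstance, inferInstance⟩

variable (f : X ⟶ S) (g : T ⟶ S) (h : Y ⟶ X) (e : Y ⟶ T)

/-- Direct image of morphisms on sections. -/
theorem app_pushSh (p : Y ⟶ X) {A B : EtDesc.Sh Y} (φ : A ⟶ B) (W : X.Etale) (x : A.obj.obj (op ((EtCoh.bc p).obj W))) :
    ((EtDesc.pushSh p).map φ).hom.app (op W) x = φ.hom.app (op ((EtCoh.bc p).obj W)) x := rfl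

/-- The map between base changes induced by a map over the bases. -/
theorem exists_bcLift {P Q P' Q' : Scheme.{u}} {p : P ⟶ Q} {p' : P' ⟶ Q'} {m : Q' ⟶ Q} {n : P' ⟶ P}
    (w : n ≫ p = p' ≫ m) {B : Q.Etale} {A : Q'.Etale} (l : A.left ⟶ B.left) (hl : l ≫ B.hom = A.hom ≫ m) :
    ∃ L : ((EtCoh.bc p').obj A).left ⟶ ((EtCoh.bc p).obj B).left,
      L ≫ pullback.fst B.hom p = pullback.fst A.hom p' ≫ l ∧
        L ≫ ((EtCoh.bc p).obj B).hom = ((EtCoh.bc p').obj A).hom ≫ n :=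
  ⟨pullback.lift (pullback.fst A.hom p' ≫ l) (pullback.snd A.hom p' ≫ n)
    ((Category.assoc _ _ _).trans ((congrArg (_ ≫ ·) hl).trans ((Category.assoc _ _ _).symm.trans
      ((congrArg (· ≫ m) pullback.condition).trans ((Category.assoc _ _ _).trans
        ((congrArg (_ ≫ ·) w.symm).trans (Category.assoc _ _ _).symm)))))),
    pullback.lift_fst _ _ _, pullback.lift_snd _ _ _⟩

variable {U V T' Y' : Scheme.{u}} (u : U ⟶ X) (v : V ⟶ S) (a : U ⟶ V) (ha : a ≫ v = u ≫ f)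
  (t : T' ⟶ T) (g' : T' ⟶ V) (h' : Y' ⟶ U) (e' : Y' ⟶ T') (y : Y' ⟶ Y)

/-- Both composites in the restricted square on pulled back sections. -/
theorem square_eq_el (w : e ≫ g = h ≫ f) (wT : t ≫ g = g' ≫ v) (wY : e' ≫ g' = h' ≫ a) (hye : y ≫ e = e' ≫ t)
    (hyh : y ≫ h = h' ≫ u) (F : EtDesc.Sh T) {W : U.Etale} {U₀ : X.Etale} {V₀ : S.Etale}
    (l : W.left ⟶ U₀.left) (hl : l ≫ U₀.hom = W.hom ≫ u) (k : U₀.left ⟶ V₀.left) (hk : k ≫ V₀.hom = U₀.hom ≫ f)
    (hlk : (l ≫ k) ≫ V₀.hom = W.hom ≫ u ≫ f)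
    (L₁ : ((EtCoh.bc h).obj U₀).left ⟶ ((EtCoh.bc g).obj V₀).left)
    (hL₁f : L₁ ≫ pullback.fst V₀.hom g = pullback.fst U₀.hom h ≫ k)
    (hL₁ : L₁ ≫ ((EtCoh.bc g).obj V₀).hom = ((EtCoh.bc h).obj U₀).hom ≫ e)
    (L₂ : ((EtCoh.bc h').obj W).left ⟶ ((EtCoh.bc h).obj U₀).left)
    (hL₂f : L₂ ≫ pullback.fst U₀.hom h = pullback.fst W.hom h' ≫ l)
    (hL₂ : L₂ ≫ ((EtCoh.bc h).obj U₀).hom = ((EtCoh.bc h').obj W).hom ≫ y)
    {U₁ : V.Etale} (k' : U₁.left ⟶ V₀.left) (hk' : k' ≫ V₀.hom = U₁.hom ≫ v)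
    (l' : W.left ⟶ U₁.left) (hl' : l' ≫ U₁.hom = W.hom ≫ a) (hl'f : l' ≫ k' = l ≫ k)
    (M₁ : ((EtCoh.bc g').obj U₁).left ⟶ ((EtCoh.bc g).obj V₀).left)
    (hM₁f : M₁ ≫ pullback.fst V₀.hom g = pullback.fst U₁.hom g' ≫ k')
    (hM₁ : M₁ ≫ ((EtCoh.bc g).obj V₀).hom = ((EtCoh.bc g').obj U₁).hom ≫ t)
    (M₂ : ((EtCoh.bc h').obj W).left ⟶ ((EtCoh.bc g').obj U₁).left)
    (hM₂f : M₂ ≫ pullback.fst U₁.hom g' = pullback.fst W.hom h' ≫ l')
    (hM₂ : M₂ ≫ ((EtCoh.bc g').obj U₁).hom = ((EtCoh.bc h').obj W).hom ≫ e')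
    (hb : (L₂ ≫ L₁) ≫ ((EtCoh.bc g).obj V₀).hom = ((EtCoh.bc h').obj W).hom ≫ e' ≫ t)
    (hb' : (M₂ ≫ M₁) ≫ ((EtCoh.bc g).obj V₀).hom = ((EtCoh.bc h').obj W).hom ≫ e' ≫ t)
    (heq : L₂ ≫ L₁ = M₂ ≫ M₁) (hlk' : (l' ≫ k') ≫ V₀.hom = W.hom ≫ u ≫ f)
    (s : ((EtDesc.pushSh g).obj F).obj.obj (op V₀)) :
    ((EtDesc.pullSh u).map (EtBC.baseChange0Sh g f h e w F) ≫
      EtBC.baseChange0Sh h u h' y hyh ((EtDesc.pullSh e).obj F) ≫
        (EtDesc.pushSh h').map (EtDesc.pullVia y e (e' ≫ t) hye F).hom).hom.app (op W)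
      (el u ((EtDesc.pullSh f).obj ((EtDesc.pushSh g).obj F)) l hl (el f ((EtDesc.pushSh g).obj F) k hk s)) =
      ((EtDesc.pullVia u f (u ≫ f) rfl ((EtDesc.pushSh g).obj F)).hom ≫
        (EtDesc.pullVia a v (u ≫ f) ha ((EtDesc.pushSh g).obj F)).inv ≫
        (EtDesc.pullSh a).map (EtBC.baseChange0Sh g v g' t wT F) ≫
        EtBC.baseChange0Sh g' a h' e' wY ((EtDesc.pullSh t).obj F) ≫
          (EtDesc.pushSh h').map (EtDesc.pullVia e' t (e' ≫ t) rfl F).hom).hom.app (op W)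
      (el u ((EtDesc.pullSh f).obj ((EtDesc.pushSh g).obj F)) l hl (el f ((EtDesc.pushSh g).obj F) k hk s)) := by
  have e₁ := app_el u _ (EtBC.baseChange0Sh g f h e w F) l hl (el f ((EtDesc.pushSh g).obj F) k hk s)
  rw [baseChange0Sh_el g f h e w F k hk L₁ hL₁ hL₁f] at e₁
  have e₂ := baseChange0Sh_el h u h' y hyh ((EtDesc.pullSh e).obj F) l hl L₂ hL₂ hL₂f (el e F L₁ hL₁ s)
  have e₃ := pullVia_el y e (e' ≫ t) hye F L₂ hL₂ L₁ hL₁ hb s
  have f₁ := pullVia_el u f (u ≫ f) rfl ((EtDesc.pushSh g).obj F) l hl k hk hlk s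
  have f₂ : (EtDesc.pullVia a v (u ≫ f) ha ((EtDesc.pushSh g).obj F)).inv.hom.app (op W)
      (el (u ≫ f) ((EtDesc.pushSh g).obj F) (l ≫ k) hlk s) =
      el a ((EtDesc.pullSh v).obj ((EtDesc.pushSh g).obj F)) l' hl' (el v ((EtDesc.pushSh g).obj F) k' hk' s) :=
    app_inv_cancel _ ((pullVia_el a v (u ≫ f) ha _ l' hl' k' hk' hlk' s).trans (el_congr _ _ hlk' hlk hl'f s))
  have f₃ := app_el a _ (EtBC.baseChange0Sh g v g' t wT F) l' hl' (el v ((EtDesc.pushSh g).obj F) k' hk' s)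
  rw [baseChange0Sh_el g v g' t wT F k' hk' M₁ hM₁ hM₁f] at f₃
  have f₄ := baseChange0Sh_el g' a h' e' wY ((EtDesc.pullSh t).obj F) l' hl' M₂ hM₂ hM₂f (el t F M₁ hM₁ s)
  have f₅ := pullVia_el e' t (e' ≫ t) rfl F M₂ hM₂ M₁ hM₁ hb' s
  refine ((app_comp _ _ W _).trans (congrArg _ e₁)).trans (((app_comp _ _ W _).trans (congrArg _ e₂)).trans ?_)
  refine (app_pushSh h' _ W _).trans (e₃.trans ((el_congr _ F hb hb' heq s).trans ?_))
  symm
  refine ((app_comp _ _ W _).trans (congrArg _ f₁)).trans (((app_comp _ _ W _).trans (congrArg _ f₂)).trans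
    (((app_comp _ _ W _).trans (congrArg _ f₃)).trans (((app_comp _ _ W _).trans (congrArg _ f₄)).trans ?_)))
  exact (app_pushSh h' _ W _).trans f₅

/-- The two composites in the restricted square agree. -/
theorem square_eq (w : e ≫ g = h ≫ f) (wT : t ≫ g = g' ≫ v) (wY : e' ≫ g' = h' ≫ a) (hye : y ≫ e = e' ≫ t)
    (hyh : y ≫ h = h' ≫ u) (F : EtDesc.Sh T) :
    (EtDesc.pullSh u).map (EtBC.baseChange0Sh g f h e w F) ≫
      EtBC.baseChange0Sh h u h' y hyh ((EtDesc.pullSh e).obj F) ≫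
        (EtDesc.pushSh h').map (EtDesc.pullVia y e (e' ≫ t) hye F).hom =
      (EtDesc.pullVia u f (u ≫ f) rfl ((EtDesc.pushSh g).obj F)).hom ≫
        (EtDesc.pullVia a v (u ≫ f) ha ((EtDesc.pushSh g).obj F)).inv ≫
        (EtDesc.pullSh a).map (EtBC.baseChange0Sh g v g' t wT F) ≫
        EtBC.baseChange0Sh g' a h' e' wY ((EtDesc.pullSh t).obj F) ≫
          (EtDesc.pushSh h').map (EtDesc.pullVia e' t (e' ≫ t) rfl F).hom := by
  refine hom_ext_el₂ f u ((EtDesc.pushSh g).obj F) fun W U₀ V₀ l hl k hk s => ?_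
  have hlk : (l ≫ k) ≫ V₀.hom = W.hom ≫ u ≫ f :=
    (Category.assoc _ _ _).trans ((congrArg (l ≫ ·) hk).trans ((Category.assoc _ _ _).symm.trans
      ((congrArg (· ≫ f) hl).trans (Category.assoc _ _ _))))
  obtain ⟨L₁, hL₁f, hL₁⟩ := exists_bcLift (p := g) (p' := h) w k hk
  obtain ⟨L₂, hL₂f, hL₂⟩ := exists_bcLift (p := h) (p' := h') hyh l hl
  obtain ⟨U₁, k', hk', l', hl', hl'f⟩ : ∃ (U₁ : V.Etale) (k' : U₁.left ⟶ V₀.left) (_ : k' ≫ V₀.hom = U₁.hom ≫ v)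
      (l' : W.left ⟶ U₁.left) (_ : l' ≫ U₁.hom = W.hom ≫ a), l' ≫ k' = l ≫ k :=
    ⟨(EtCoh.bc v).obj V₀, pullback.fst _ _, pullback.condition,
      pullback.lift (l ≫ k) (W.hom ≫ a) (hlk.trans ((congrArg (_ ≫ ·) ha.symm).trans (Category.assoc _ _ _).symm)),
      pullback.lift_snd _ _ _, pullback.lift_fst _ _ _⟩
  obtain ⟨M₁, hM₁f, hM₁⟩ := exists_bcLift (p := g) (p' := g') wT k' hk'
  obtain ⟨M₂, hM₂f, hM₂⟩ := exists_bcLift (p := g') (p' := h') wY l' hl'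
  have hb : (L₂ ≫ L₁) ≫ ((EtCoh.bc g).obj V₀).hom = ((EtCoh.bc h').obj W).hom ≫ e' ≫ t :=
    (Category.assoc _ _ _).trans ((congrArg (L₂ ≫ ·) hL₁).trans ((Category.assoc _ _ _).symm.trans
      ((congrArg (· ≫ e) hL₂).trans ((Category.assoc _ _ _).trans (congrArg (_ ≫ ·) hye)))))
  have hb' : (M₂ ≫ M₁) ≫ ((EtCoh.bc g).obj V₀).hom = ((EtCoh.bc h').obj W).hom ≫ e' ≫ t :=
    (Category.assoc _ _ _).trans ((congrArg (M₂ ≫ ·) hM₁).trans ((Category.assoc _ _ _).symm.trans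
      ((congrArg (· ≫ t) hM₂).trans (Category.assoc _ _ _))))
  have hf : (L₂ ≫ L₁) ≫ pullback.fst V₀.hom g = (M₂ ≫ M₁) ≫ pullback.fst V₀.hom g :=
    (Category.assoc _ _ _).trans ((congrArg (L₂ ≫ ·) hL₁f).trans ((Category.assoc _ _ _).symm.trans
      ((congrArg (· ≫ k) hL₂f).trans ((Category.assoc _ _ _).trans ((congrArg (_ ≫ ·) hl'f.symm).trans
        ((Category.assoc _ _ _).symm.trans ((congrArg (· ≫ k') hM₂f.symm).trans ((Category.assoc _ _ _).trans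
          ((congrArg (M₂ ≫ ·) hM₁f.symm).trans (Category.assoc _ _ _).symm)))))))))
  have heq : L₂ ≫ L₁ = M₂ ≫ M₁ := pullback.hom_ext hf (hb.trans hb'.symm)
  have hlk' : (l' ≫ k') ≫ V₀.hom = W.hom ≫ u ≫ f := (congrArg (· ≫ V₀.hom) hl'f).trans hlk
  exact square_eq_el f g h e u v a ha t g' h' e' y w wT wY hye hyh F l hl k hk hlk L₁ hL₁f hL₁ L₂ hL₂f hL₂ k' hk' l' hl'
    hl'f M₁ hM₁f hM₁ M₂ hM₂f hM₂ hb hb' heq hlk' s

variable {u v}

include ha in
/-- Base change maps of sheaves of sets restricted to compatible etale neighbourhoods. -/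
theorem isIso_pullSh_map_baseChange0Sh (c : IsPullback e h g f) (F : EtDesc.Sh T) [Etale u] [Etale v]
    (cT : IsPullback t g' g v) (cY : IsPullback e' h' g' a)
    (hloc : IsIso (EtBC.baseChange0Sh g' a h' e' cY.w ((EtDesc.pullSh t).obj F))) :
    IsIso ((EtDesc.pullSh u).map (EtBC.baseChange0Sh g f h e c.w F)) := by
  have cb : IsPullback (e' ≫ t) h' g (u ≫ f) := ha ▸ cY.paste_horiz cT
  obtain ⟨y, hye, hyh⟩ : ∃ y : Y' ⟶ Y, y ≫ e = e' ≫ t ∧ y ≫ h = h' ≫ u :=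
    ⟨c.lift (e' ≫ t) (h' ≫ u) (cb.w.trans (Category.assoc _ _ _).symm), c.lift_fst _ _ _, c.lift_snd _ _ _⟩
  have cy : IsPullback y h' h u := IsPullback.of_right (by rw [hye]; exact cb) hyh c
  haveI := hloc
  haveI : IsIso (EtBC.baseChange0Sh g v g' t cT.w F) := isIso_baseChange0Sh_of_etale cT F
  haveI : IsIso (EtBC.baseChange0Sh h u h' y hyh ((EtDesc.pullSh e).obj F)) := isIso_baseChange0Sh_of_etale cy _
  have hiso : IsIso ((EtDesc.pullSh u).map (EtBC.baseChange0Sh g f h e c.w F) ≫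
      EtBC.baseChange0Sh h u h' y hyh ((EtDesc.pullSh e).obj F) ≫
        (EtDesc.pushSh h').map (EtDesc.pullVia y e (e' ≫ t) hye F).hom) := by
    rw [square_eq f g h e u v a ha t g' h' e' y c.w cT.w cY.w hye hyh F]; infer_instance
  exact IsIso.of_isIso_comp_right _ (EtBC.baseChange0Sh h u h' y hyh ((EtDesc.pullSh e).obj F) ≫
        (EtDesc.pushSh h').map (EtDesc.pullVia y e (e' ≫ t) hye F).hom)

end Groth.L10.EtLocalBC
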